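import Mathlib
import Cfsg.Prelude.Def_OddOrderLocal
import Cfsg.Prelude.Def_CaseTheorems
import Cfsg.Agent.Helper22.Fitting
import Cfsg.Agent.Helper22.SolvableCore
import Cfsg.Agent.Helper11.QuadQd
import Cfsg.Agent.Helper25.CN
import Cfsg.Agent.Helper32.RankTwoQ
import Cfsg.Agent.Helper32.PConstrained

set_option autoImplicit false

/-!
# Centralizers of self-centralizing normal subgroups of `F(H)`, `H` a Hall subgroup of a
solvable group (`p`-stability argument)
-/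

namespace Cfsg.Agent.Helper32

open scoped commutatorElement

universe u

/-- `p`-stability of solvable groups for `p ≥ 5`. -/
theorem hs_pstable {X : Type u} [Group X] [Finite X] [Group.IsSolvable X] {p : ℕ} [Fact p.Prime]
    (hp3 : 3 < p) (V : Subgroup X) [V.Normal] (hV : IsPGroup p V) (a : X)
    (ha : ⁅⁅V, Subgroup.zpowers a⁆, Subgroup.zpowers a⁆ = ⊥) :
    (QuotientGroup.mk a : X ⧸ Subgroup.centralizer (V : Set X)) ∈
      Cfsg.pCore p (X ⧸ Subgroup.centralizer (V : Set X)) := by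
  by_contra hout
  obtain ⟨K, f, hf⟩ := Cfsg.Agent.Helper11.qd_section_of_quadratic (by omega) V hV a ha hout
  obtain ⟨W, τ, x₀, hQ⟩ := qdAx_qd p hp3
  haveI : Group.IsSolvable ↥(Cfsg.qd p) := solvable_of_surjective hf
  haveI hnt : Nontrivial ↥(Cfsg.qd p) := by
    refine ⟨⟨x₀, 1, ?_⟩⟩
    intro h
    exact hQ.x_not (h ▸ one_mem _)
  have := IsSolvable.commutator_lt_top_of_nontrivial ↥(Cfsg.qd p)
  rw [hQ.perfect] at this
  exact lt_irrefl _ this

/-- The commutator of an element centralizing `Ab` with an element of a normal subgroup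
inside `Fb`. -/
theorem hs_comm_mem {X : Type u} [Group X] (Fb Ab P : Subgroup X) [hPn : P.Normal]
    (hPF : P ≤ Fb) (hnorm : Fb ≤ Subgroup.normalizer (Ab : Set X))
    (hself : Fb ⊓ Subgroup.centralizer (Ab : Set X) ≤ Ab)
    (x : X) (hx : x ∈ Subgroup.centralizer (Ab : Set X)) (r : X) (hr : r ∈ P) :
    x * r * x⁻¹ * r⁻¹ ∈ Ab ⊓ P := by
  have hcP : x * r * x⁻¹ * r⁻¹ ∈ P := P.mul_mem (hPn.conj_mem r hr x) (P.inv_mem hr)
  suffices hcen : x * r * x⁻¹ * r⁻¹ ∈ Subgroup.centralizer (Ab : Set X) from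
    ⟨hself ⟨hPF hcP, hcen⟩, hcP⟩
  rw [Subgroup.mem_centralizer_iff]
  intro a ha
  have hrn : r⁻¹ ∈ Subgroup.normalizer (Ab : Set X) := Subgroup.inv_mem _ (hnorm (hPF hr))
  have h1 : r⁻¹ * a * r ∈ Ab := by
    have := (Subgroup.mem_normalizer_iff.1 hrn a).1 ha
    rwa [inv_inv] at this
  have e1 : a * x = x * a := Subgroup.mem_centralizer_iff.1 hx a ha
  have e2 : (r⁻¹ * a * r) * x = x * (r⁻¹ * a * r) := Subgroup.mem_centralizer_iff.1 hx _ h1
  have e2' : x⁻¹ * (r⁻¹ * a * r) = (r⁻¹ * a * r) * x⁻¹ := by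
    calc x⁻¹ * (r⁻¹ * a * r) = x⁻¹ * ((r⁻¹ * a * r) * x) * x⁻¹ := by group
      _ = x⁻¹ * (x * (r⁻¹ * a * r)) * x⁻¹ := by rw [e2]
      _ = (r⁻¹ * a * r) * x⁻¹ := by group
  calc a * (x * r * x⁻¹ * r⁻¹) = (a * x) * r * x⁻¹ * r⁻¹ := by group
    _ = (x * a) * r * x⁻¹ * r⁻¹ := by rw [e1]
    _ = x * r * ((r⁻¹ * a * r) * x⁻¹) * r⁻¹ := by group
    _ = x * r * (x⁻¹ * (r⁻¹ * a * r)) * r⁻¹ := by rw [e2']
    _ = x * r * x⁻¹ * r⁻¹ * a := by group

/-- Iterated conjugation when the commutator is centralized. -/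
theorem hs_conj_pow {X : Type u} [Group X] (x r c : X) (h1 : x * r * x⁻¹ = c * r)
    (h2 : x * c = c * x) (n : ℕ) : x ^ n * r * (x ^ n)⁻¹ = c ^ n * r := by
  induction n with
  | zero => simp
  | succ n ih =>
    have hc : x * c ^ n = c ^ n * x := (Commute.pow_right (show Commute x c from h2) n).eq
    calc x ^ (n + 1) * r * (x ^ (n + 1))⁻¹ = x * (x ^ n * r * (x ^ n)⁻¹) * x⁻¹ := by
          rw [pow_succ']; group
      _ = x * (c ^ n * r) * x⁻¹ := by rw [ih]
      _ = (x * c ^ n) * r * x⁻¹ := by group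
      _ = (c ^ n * x) * r * x⁻¹ := by rw [hc]
      _ = c ^ n * (x * r * x⁻¹) := by group
      _ = c ^ n * (c * r) := by rw [h1]
      _ = c ^ (n + 1) * r := by rw [pow_succ]; group

/-- An element centralizing `Ab`, of order prime to `q`, centralizes every normal `q`-subgroup
inside `Fb`. -/
theorem hs_centralizes {X : Type u} [Group X] [Finite X] (Fb Ab P : Subgroup X) [hPn : P.Normal]
    {q : ℕ} [Fact q.Prime] (hP : IsPGroup q P)
    (hPF : P ≤ Fb) (hnorm : Fb ≤ Subgroup.normalizer (Ab : Set X))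
    (hself : Fb ⊓ Subgroup.centralizer (Ab : Set X) ≤ Ab)
    (x : X) (hx : x ∈ Subgroup.centralizer (Ab : Set X)) (hcop : (orderOf x).Coprime q)
    (r : X) (hr : r ∈ P) : x * r = r * x := by
  obtain ⟨c, hc⟩ : ∃ c, c = x * r * x⁻¹ * r⁻¹ := ⟨_, rfl⟩
  have hcm := hs_comm_mem Fb Ab P hPF hnorm hself x hx r hr
  rw [← hc] at hcm
  have h1 : x * r * x⁻¹ = c * r := by rw [hc]; group
  have h2 : x * c = c * x := (Subgroup.mem_centralizer_iff.1 hx c hcm.1).symm
  have h3 := hs_conj_pow x r c h1 h2 (orderOf x)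
  rw [pow_orderOf_eq_one] at h3
  have h4 : c ^ orderOf x = 1 := by
    have h5 : c ^ orderOf x * r = 1 * r := by
      rw [← h3]; group
    exact mul_right_cancel h5
  obtain ⟨j, hj⟩ := hP ⟨c, hcm.2⟩
  have hj' : c ^ (q ^ j) = 1 := by
    have := congrArg Subtype.val hj
    simpa using this
  have hc1 : orderOf c = 1 :=
    Nat.eq_one_of_dvd_coprimes (Nat.Coprime.pow_right j hcop) (orderOf_dvd_of_pow_eq_one h4)
      (orderOf_dvd_of_pow_eq_one hj')
  have hc1' : c = 1 := orderOf_eq_one_iff.1 hc1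
  rw [hc1', one_mul] at h1
  calc x * r = (x * r * x⁻¹) * x := by group
    _ = r * x := by rw [h1]

/-- `F(X)` lies in `Fb` when the cores do. -/
theorem hs_fitting_le {X : Type u} [Group X] [Finite X] (π : Set ℕ) (Fb : Subgroup X)
    (hcore : ∀ q : ℕ, q.Prime → q ∉ π → Cfsg.pCore q X = ⊥)
    (hF : ∀ q : ℕ, q.Prime → q ∈ π → Cfsg.pCore q X ≤ Fb) :
    Cfsg.fittingSubgroup X ≤ Fb := by
  rw [Cfsg.Agent.Helper22.fittingSubgroup_eq_iSup_pCore]
  apply iSup_le
  intro q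
  by_cases hq : (q : ℕ) ∈ π
  · exact hF q q.2 hq
  · rw [hcore q q.2 hq]; exact bot_le

/-- An element centralizing `Ab` and every `O_q(X)` lies in `Ab`. -/
theorem hs_mem_of_centralizes_all {X : Type u} [Group X] [Finite X] [Group.IsSolvable X]
    (Fb Ab : Subgroup X) (hFit : Cfsg.fittingSubgroup X ≤ Fb)
    (hself : Fb ⊓ Subgroup.centralizer (Ab : Set X) ≤ Ab)
    (x : X) (hx : x ∈ Subgroup.centralizer (Ab : Set X))
    (hall : ∀ q : ℕ, q.Prime → ∀ r ∈ Cfsg.pCore q X, x * r = r * x) : x ∈ Ab := by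
  apply hself
  refine ⟨hFit (Cfsg.Agent.Helper22.centralizer_fittingSubgroup_le_of_isSolvable ?_), hx⟩
  rw [Subgroup.mem_centralizer_iff]
  have hle : Cfsg.fittingSubgroup X ≤ Subgroup.centralizer ({x} : Set X) := by
    rw [Cfsg.Agent.Helper22.fittingSubgroup_eq_iSup_pCore]
    apply iSup_le
    intro q r hr
    rw [Subgroup.mem_centralizer_iff]
    intro y hy
    rw [Set.mem_singleton_iff] at hy
    rw [hy]
    exact hall q q.2 r hr
  intro h hh
  exact (Subgroup.mem_centralizer_iff.1 (hle hh) x (Set.mem_singleton x)).symm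

end Cfsg.Agent.Helper32
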