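import Mathlib
import Cfsg.Agent.Helper32.HallSCN

set_option autoImplicit false
set_option linter.style.haveILetI false

/-!
# Centralizers of self-centralizing normal subgroups of `F(H)` (continued)
-/

namespace Cfsg.Agent.Helper32

open scoped commutatorElement

universe u

/-- The `p`-stability step: an element centralizing `Ab` and all `O_q(X)`, `q ≠ p`, lies in `Ab`
(`p ≥ 5`, `X` solvable). -/
theorem hs_quadratic_mem {X : Type u} [Group X] [Finite X] [Group.IsSolvable X] (Fb Ab : Subgroup X)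
    (hFit : Cfsg.fittingSubgroup X ≤ Fb)
    (hnorm : Fb ≤ Subgroup.normalizer (Ab : Set X))
    (hself : Fb ⊓ Subgroup.centralizer (Ab : Set X) ≤ Ab)
    {p : ℕ} [Fact p.Prime] (hp3 : 3 < p)
    (x : X) (hx : x ∈ Subgroup.centralizer (Ab : Set X))
    (hoth : ∀ q : ℕ, q.Prime → q ≠ p → ∀ r ∈ Cfsg.pCore q X, x * r = r * x) : x ∈ Ab := by
  have hpp : p.Prime := Fact.out
  have hFeq := Cfsg.Agent.Helper22.fittingSubgroup_eq_iSup_pCore X
  have hPFit : Cfsg.pCore p X ≤ Cfsg.fittingSubgroup X := by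
    rw [hFeq]
    exact le_iSup (fun q : Nat.Primes => Cfsg.pCore (q : ℕ) X) ⟨p, hpp⟩
  have hPF : Cfsg.pCore p X ≤ Fb := hPFit.trans hFit
  have hPp : IsPGroup p (Cfsg.pCore p X) := Cfsg.Agent.Helper22.pCore_isPGroup p X
  have hzC : Subgroup.zpowers x ≤ Subgroup.centralizer (Ab : Set X) := Subgroup.zpowers_le.2 hx
  -- quadratic action
  have hcomm : ⁅Cfsg.pCore p X, Subgroup.zpowers x⁆ ≤ Ab := by
    rw [Subgroup.commutator_le]
    intro r hr y hy
    have := (hs_comm_mem Fb Ab (Cfsg.pCore p X) hPF hnorm hself y (hzC hy) r hr).1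
    have e : ⁅r, y⁆ = (y * r * y⁻¹ * r⁻¹)⁻¹ := by rw [commutatorElement_def]; group
    rw [e]
    exact Ab.inv_mem this
  have hquad : ⁅⁅Cfsg.pCore p X, Subgroup.zpowers x⁆, Subgroup.zpowers x⁆ = ⊥ := by
    rw [eq_bot_iff]
    refine le_trans (Subgroup.commutator_mono hcomm le_rfl) ?_
    rw [le_bot_iff, Subgroup.commutator_eq_bot_iff_le_centralizer]
    intro a ha
    rw [Subgroup.mem_centralizer_iff]
    intro y hy
    exact (Subgroup.mem_centralizer_iff.1 (hzC hy) a ha).symm
  have hst := hs_pstable hp3 (Cfsg.pCore p X) hPp x hquad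
  -- the relevant subgroups
  obtain ⟨CP, hCP⟩ : ∃ CP : Subgroup X, CP = Subgroup.centralizer ((Cfsg.pCore p X : Subgroup X) : Set X) :=
    ⟨_, rfl⟩
  haveI hCPn : CP.Normal := by rw [hCP]; infer_instance
  obtain ⟨E, hE⟩ : ∃ E : Subgroup X,
      E = sSup {M : Subgroup X | ∃ q : ℕ, q.Prime ∧ q ≠ p ∧ M = Cfsg.pCore q X} := ⟨_, rfl⟩
  haveI hEn : E.Normal := by
    rw [hE]
    refine Subgroup.sSup_normal _ ?_
    rintro M ⟨q, hq, hne, rfl⟩
    infer_instance
  have hEle : ∀ q : ℕ, q.Prime → q ≠ p → Cfsg.pCore q X ≤ E := by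
    intro q hq hne
    rw [hE]
    exact le_sSup ⟨q, hq, hne, rfl⟩
  obtain ⟨CE, hCE⟩ : ∃ CE : Subgroup X, CE = Subgroup.centralizer ((E : Subgroup X) : Set X) := ⟨_, rfl⟩
  haveI hCEn : CE.Normal := by rw [hCE]; infer_instance
  have hst' : (QuotientGroup.mk x : X ⧸ CP) ∈ Cfsg.pCore p (X ⧸ CP) := by
    subst hCP
    exact hst
  obtain ⟨K, hK⟩ : ∃ K : Subgroup X, K = (Cfsg.pCore p (X ⧸ CP)).comap (QuotientGroup.mk' CP) :=
    ⟨_, rfl⟩
  haveI hKn : K.Normal := by
    rw [hK]
    exact (Cfsg.pCore_normal p (X ⧸ CP)).comap _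
  obtain ⟨Y, hY⟩ : ∃ Y : Subgroup X, Y = K ⊓ CE := ⟨_, rfl⟩
  haveI hYn : Y.Normal := by rw [hY]; infer_instance
  -- `x ∈ Y`
  have hxCE : x ∈ CE := by
    rw [hCE, Subgroup.mem_centralizer_iff]
    have hle : E ≤ Subgroup.centralizer ({x} : Set X) := by
      rw [hE]
      apply sSup_le
      rintro M ⟨q, hq, hne, rfl⟩ r hr
      rw [Subgroup.mem_centralizer_iff]
      intro y hy
      rw [Set.mem_singleton_iff] at hy
      rw [hy]
      exact hoth q hq hne r hr
    intro e he
    exact (Subgroup.mem_centralizer_iff.1 (hle he) x (Set.mem_singleton x)).symm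
  have hxY : x ∈ Y := by
    rw [hY]
    refine ⟨?_, hxCE⟩
    rw [hK]
    exact hst'
  -- the central subgroup
  obtain ⟨Z₀, hZ₀⟩ : ∃ Z₀ : Subgroup X, Z₀ = Y ⊓ CP ⊓ E := ⟨_, rfl⟩
  haveI hZ₀n : Z₀.Normal := by rw [hZ₀]; infer_instance
  have hZc : Z₀.subgroupOf Y ≤ Subgroup.center Y := by
    rintro ⟨z, hzY⟩ hz
    rw [Subgroup.mem_subgroupOf, hZ₀] at hz
    rw [Subgroup.mem_center_iff]
    rintro ⟨y, hy⟩
    apply Subtype.ext
    show y * z = z * y
    have hyCE : y ∈ CE := by rw [hY] at hy; exact hy.2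
    rw [hCE] at hyCE
    exact (Subgroup.mem_centralizer_iff.1 hyCE z hz.2).symm
  have hFPE : Cfsg.fittingSubgroup X ≤ Cfsg.pCore p X ⊔ E := by
    rw [hFeq]
    apply iSup_le
    intro q
    by_cases hqp : (q : ℕ) = p
    · rw [hqp]; exact le_sup_left
    · exact le_sup_of_le_right (hEle q q.2 hqp)
  have hpg : IsPGroup p (Y ⧸ Z₀.subgroupOf Y) := by
    intro g
    induction g using QuotientGroup.induction_on with
    | H y =>
      obtain ⟨y, hy⟩ := y
      have hyK : QuotientGroup.mk' CP y ∈ Cfsg.pCore p (X ⧸ CP) := by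
        have : y ∈ K := by rw [hY] at hy; exact hy.1
        rw [hK] at this
        exact this
      obtain ⟨a, ha⟩ := (Cfsg.Agent.Helper22.pCore_isPGroup p (X ⧸ CP)) ⟨_, hyK⟩
      have ha' : (QuotientGroup.mk' CP y) ^ (p ^ a) = 1 := by
        have := congrArg Subtype.val ha
        simpa using this
      have hw : y ^ (p ^ a) ∈ CP := by
        rw [← QuotientGroup.eq_one_iff, QuotientGroup.mk_pow]
        exact ha'
      obtain ⟨w, hwdef⟩ : ∃ w, w = y ^ (p ^ a) := ⟨_, rfl⟩
      rw [← hwdef] at hw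
      have hwY : w ∈ Y := by rw [hwdef]; exact Y.pow_mem hy _
      have hwCE : w ∈ CE := by rw [hY] at hwY; exact hwY.2
      have hwF : w ∈ Cfsg.fittingSubgroup X := by
        apply Cfsg.Agent.Helper22.centralizer_fittingSubgroup_le_of_isSolvable
        rw [Subgroup.mem_centralizer_iff]
        have hle : Cfsg.fittingSubgroup X ≤ Subgroup.centralizer ({w} : Set X) := by
          rw [hFeq]
          apply iSup_le
          intro q r hr
          rw [Subgroup.mem_centralizer_iff]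
          intro v hv
          rw [Set.mem_singleton_iff] at hv
          rw [hv]
          by_cases hqp : (q : ℕ) = p
          · rw [hqp] at hr
            rw [hCP] at hw
            exact (Subgroup.mem_centralizer_iff.1 hw r hr).symm
          · have hrE : r ∈ E := hEle q q.2 hqp hr
            rw [hCE] at hwCE
            exact (Subgroup.mem_centralizer_iff.1 hwCE r hrE).symm
        intro h hh
        exact (Subgroup.mem_centralizer_iff.1 (hle hh) w (Set.mem_singleton w)).symm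
      have hwPE : w ∈ ((Cfsg.pCore p X ⊔ E : Subgroup X) : Set X) := hFPE hwF
      rw [Subgroup.mul_normal] at hwPE
      obtain ⟨s, hs, e, he, hse⟩ := Set.mem_mul.1 hwPE
      obtain ⟨b, hb⟩ := hPp ⟨s, hs⟩
      have hb' : s ^ (p ^ b) = 1 := by
        have := congrArg Subtype.val hb
        simpa using this
      have hwE : w ^ (p ^ b) ∈ E := by
        rw [← QuotientGroup.eq_one_iff, QuotientGroup.mk_pow, ← hse, QuotientGroup.mk_mul,
          (QuotientGroup.eq_one_iff e).2 he, mul_one, ← QuotientGroup.mk_pow, hb']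
        rfl
      have hmem : y ^ (p ^ (a + b)) ∈ Z₀ := by
        have e1 : y ^ (p ^ (a + b)) = w ^ (p ^ b) := by rw [hwdef, pow_add, pow_mul]
        rw [e1, hZ₀]
        exact ⟨⟨Y.pow_mem hwY _, CP.pow_mem hw _⟩, hwE⟩
      refine ⟨a + b, ?_⟩
      rw [← QuotientGroup.mk_pow, QuotientGroup.eq_one_iff, Subgroup.mem_subgroupOf]
      exact hmem
  have hYnil : Group.IsNilpotent Y := by
    haveI : Group.IsNilpotent (Y ⧸ Z₀.subgroupOf Y) := hpg.isNilpotent
    exact isNilpotent_of_ker_le_center (QuotientGroup.mk' (Z₀.subgroupOf Y))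
      (by rw [QuotientGroup.ker_mk']; exact hZc)
  have hYF : Y ≤ Cfsg.fittingSubgroup X := le_sSup ⟨hYn, hYnil⟩
  exact hself ⟨hFit (hYF hxY), hx⟩

/-- Main lemma in the quotient: `C_X(Ab) ≤ Ab`. -/
theorem hs_centralizer_le {X : Type u} [Group X] [Finite X] [Group.IsSolvable X] (π : Set ℕ)
    (h2 : 2 ∉ π) (h3 : 3 ∉ π) (Fb Ab : Subgroup X)
    (hcore : ∀ q : ℕ, q.Prime → q ∉ π → Cfsg.pCore q X = ⊥)
    (hF : ∀ q : ℕ, q.Prime → q ∈ π → Cfsg.pCore q X ≤ Fb)
    (hnorm : Fb ≤ Subgroup.normalizer (Ab : Set X))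
    (hself : Fb ⊓ Subgroup.centralizer (Ab : Set X) ≤ Ab) :
    Subgroup.centralizer (Ab : Set X) ≤ Ab := by
  have hFit := hs_fitting_le π Fb hcore hF
  have hcen : ∀ (q : ℕ), q.Prime → ∀ x ∈ Subgroup.centralizer (Ab : Set X),
      (orderOf x).Coprime q → ∀ r ∈ Cfsg.pCore q X, x * r = r * x := by
    intro q hq x hx hcop r hr
    by_cases hqπ : q ∈ π
    · haveI : Fact q.Prime := ⟨hq⟩
      exact hs_centralizes Fb Ab (Cfsg.pCore q X) (Cfsg.Agent.Helper22.pCore_isPGroup q X)
        (hF q hq hqπ) hnorm hself x hx hcop r hr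
    · rw [hcore q hq hqπ, Subgroup.mem_bot] at hr
      rw [hr]; simp
  have hpp : ∀ (p : ℕ), p.Prime → ∀ (k : ℕ) (x : X), x ∈ Subgroup.centralizer (Ab : Set X) →
      orderOf x = p ^ k → x ∈ Ab := by
    intro p hp k x hx hord
    haveI : Fact p.Prime := ⟨hp⟩
    have hoth : ∀ q : ℕ, q.Prime → q ≠ p → ∀ r ∈ Cfsg.pCore q X, x * r = r * x := by
      intro q hq hne r hr
      apply hcen q hq x hx _ r hr
      rw [hord]
      exact Nat.Coprime.pow_left k ((Nat.coprime_primes hp hq).2 (Ne.symm hne))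
    by_cases hpπ : p ∈ π
    · have hp3 : 3 < p := by
        have h2' : p ≠ 2 := fun h => h2 (h ▸ hpπ)
        have h3' : p ≠ 3 := fun h => h3 (h ▸ hpπ)
        have := hp.two_le
        omega
      exact hs_quadratic_mem Fb Ab hFit hnorm hself hp3 x hx hoth
    · apply hs_mem_of_centralizes_all Fb Ab hFit hself x hx
      intro q hq r hr
      by_cases hqp : q = p
      · rw [hqp, hcore p hp hpπ, Subgroup.mem_bot] at hr
        rw [hr]; simp
      · exact hoth q hq hqp r hr
  have key : ∀ n : ℕ, ∀ x : X, x ∈ Subgroup.centralizer (Ab : Set X) → orderOf x = n → x ∈ Ab := by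
    intro n
    induction n using Nat.strong_induction_on with
    | _ n ih =>
      intro x hx hn
      by_cases h1 : x = 1
      · rw [h1]; exact one_mem _
      have hn1 : orderOf x ≠ 1 := fun h => h1 (orderOf_eq_one_iff.1 h)
      obtain ⟨p, hp, hpd⟩ := Nat.exists_prime_and_dvd hn1
      obtain ⟨a, b, hab, ha, hb, ⟨k, hk⟩, hbc⟩ :=
        Cfsg.Agent.Helper25.exists_primary_decomp p hp x (orderOf_pos x).ne'
      have hzC : Subgroup.zpowers x ≤ Subgroup.centralizer (Ab : Set X) := Subgroup.zpowers_le.2 hx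
      have haA := hpp p hp k a (hzC ha) hk
      have hbo : orderOf b < n := by
        have hdvd : orderOf b ∣ orderOf x := orderOf_dvd_of_mem_zpowers hb
        have hne : orderOf b ≠ orderOf x := by
          intro h
          rw [h] at hbc
          exact hp.one_lt.ne' (Nat.Coprime.eq_one_of_dvd hbc.symm hpd)
        have := Nat.le_of_dvd (orderOf_pos x) hdvd
        omega
      have hbA := ih (orderOf b) hbo b (hzC hb) rfl
      rw [hab]
      exact Ab.mul_mem haA hbA
  intro x hx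
  exact key _ x hx rfl

end Cfsg.Agent.Helper32
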