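import Mathlib
import Cfsg.Agent.Helper32.HallSCN2

set_option autoImplicit false
set_option linter.style.haveILetI false

/-!
# Centralizers of self-centralizing normal subgroups of `F(H)`: the reduction modulo the largest
normal `π'`-subgroup
-/

namespace Cfsg.Agent.Helper32

universe u

/-- A normal subgroup of largest order among those whose order has no prime divisor in `π`. -/
theorem hs_exists_max (G : Type u) [Group G] [Finite G] (π : Set ℕ) :
    ∃ N : Subgroup G, N.Normal ∧ (∀ q : ℕ, q.Prime → q ∣ Nat.card N → q ∉ π) ∧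
      ∀ M : Subgroup G, M.Normal → (∀ q : ℕ, q.Prime → q ∣ Nat.card M → q ∉ π) →
        Nat.card M ≤ Nat.card N := by
  let S : Set (Subgroup G) := {N | N.Normal ∧ ∀ q : ℕ, q.Prime → q ∣ Nat.card N → q ∉ π}
  have hbot : (⊥ : Subgroup G) ∈ S := ⟨inferInstance, by
    intro q hq hd
    rw [Subgroup.card_bot] at hd
    exact absurd (Nat.dvd_one.1 hd) hq.one_lt.ne'⟩
  obtain ⟨M, hM, hmax⟩ : ∃ M ∈ S, ∀ N ∈ S, Nat.card N ≤ Nat.card M :=
    Set.exists_max_image S (fun N => Nat.card N) (Set.toFinite S) ⟨⊥, hbot⟩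
  exact ⟨M, hM.1, hM.2, fun N hN hN' => hmax N ⟨hN, hN'⟩⟩

/-- Modulo a maximal normal `π'`-subgroup there is no nontrivial normal `π'`-subgroup. -/
theorem hs_quot_bot {G : Type u} [Group G] [Finite G] (π : Set ℕ) (N : Subgroup G) [N.Normal]
    (hNπ : ∀ q : ℕ, q.Prime → q ∣ Nat.card N → q ∉ π)
    (hmax : ∀ M : Subgroup G, M.Normal → (∀ q : ℕ, q.Prime → q ∣ Nat.card M → q ∉ π) →
      Nat.card M ≤ Nat.card N)
    (Mb : Subgroup (G ⧸ N)) [hMbn : Mb.Normal]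
    (hMb : ∀ q : ℕ, q.Prime → q ∣ Nat.card Mb → q ∉ π) : Mb = ⊥ := by
  have hcard := card_comap_mk' N Mb
  have hle := hmax (Mb.comap (QuotientGroup.mk' N)) (hMbn.comap _) (by
    intro q hq hd
    rw [hcard] at hd
    rcases (Nat.Prime.dvd_mul hq).1 hd with h | h
    · exact hNπ q hq h
    · exact hMb q hq h)
  rw [hcard] at hle
  have hpos : 0 < Nat.card N := Nat.card_pos
  have h1 : Nat.card Mb ≤ 1 := by
    by_contra hlt
    push Not at hlt
    nlinarith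
  exact Subgroup.eq_bot_of_card_le Mb h1

/-- `O_q` of the quotient is trivial for `q ∉ π`. -/
theorem hs_pCore_bot {G : Type u} [Group G] [Finite G] (π : Set ℕ) (N : Subgroup G) [N.Normal]
    (hNπ : ∀ q : ℕ, q.Prime → q ∣ Nat.card N → q ∉ π)
    (hmax : ∀ M : Subgroup G, M.Normal → (∀ q : ℕ, q.Prime → q ∣ Nat.card M → q ∉ π) →
      Nat.card M ≤ Nat.card N)
    (q : ℕ) (hq : q.Prime) (hqπ : q ∉ π) : Cfsg.pCore q (G ⧸ N) = ⊥ := by
  haveI : Fact q.Prime := ⟨hq⟩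
  apply hs_quot_bot π N hNπ hmax
  intro r hr hd
  obtain ⟨k, hk⟩ := (IsPGroup.iff_card).1 (Cfsg.Agent.Helper22.pCore_isPGroup q (G ⧸ N))
  rw [hk] at hd
  have := (Nat.prime_dvd_prime_iff_eq hr hq).1 (hr.dvd_of_dvd_pow hd)
  rw [this]
  exact hqπ

/-- A `π`-subgroup meets a `π'`-subgroup trivially. -/
theorem hs_inf_bot {S : Type u} [Group S] [Finite S] (π : Set ℕ) (H N : Subgroup S)
    (hH : ∀ q : ℕ, q.Prime → q ∣ Nat.card H → q ∈ π)
    (hN : ∀ q : ℕ, q.Prime → q ∣ Nat.card N → q ∉ π) : H ⊓ N = ⊥ := by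
  rw [eq_bot_iff]
  intro g hg
  rw [Subgroup.mem_bot]
  by_contra hne
  have h1 : orderOf g ≠ 1 := fun h => hne (orderOf_eq_one_iff.1 h)
  obtain ⟨q, hq, hqd⟩ := Nat.exists_prime_and_dvd h1
  have hdH : orderOf g ∣ Nat.card H := by
    have := orderOf_dvd_natCard (⟨g, hg.1⟩ : H)
    rwa [Subgroup.orderOf_mk] at this
  have hdN : orderOf g ∣ Nat.card N := by
    have := orderOf_dvd_natCard (⟨g, hg.2⟩ : N)
    rwa [Subgroup.orderOf_mk] at this
  exact hN q hq (dvd_trans hqd hdN) (hH q hq (dvd_trans hqd hdH))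

/-- For `q ∈ π`, `O_q(S/N)` lies in the image of `F(H)`, `H` a Hall `π`-subgroup and `N` a normal
`π'`-subgroup. -/
theorem hs_pCore_le_map {S : Type u} [Group S] [Finite S] (π : Set ℕ) (H : Subgroup S)
    (hH : Cfsg.IsPiHall π H) (N : Subgroup S) [N.Normal]
    (hNπ : ∀ q : ℕ, q.Prime → q ∣ Nat.card N → q ∉ π) (q : ℕ) (hq : q.Prime) (hqπ : q ∈ π) :
    Cfsg.pCore q (S ⧸ N) ≤
      ((Cfsg.fittingSubgroup H).map H.subtype).map (QuotientGroup.mk' N) := by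
  haveI : Fact q.Prime := ⟨hq⟩
  have hPq := Cfsg.Agent.Helper22.pCore_isPGroup q (S ⧸ N)
  obtain ⟨M₀, hM₀⟩ : ∃ M₀ : Subgroup S, M₀ = (Cfsg.pCore q (S ⧸ N)).comap (QuotientGroup.mk' N) :=
    ⟨_, rfl⟩
  haveI hM₀n : M₀.Normal := by
    rw [hM₀]
    exact (Cfsg.pCore_normal q (S ⧸ N)).comap _
  have hHN : H ⊓ N = ⊥ := hs_inf_bot π H N hH.1 hNπ
  have hNM : N ≤ M₀ := by
    intro n hn
    rw [hM₀, Subgroup.mem_comap]
    have : QuotientGroup.mk' N n = 1 := (QuotientGroup.eq_one_iff n).2 hn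
    rw [this]
    exact one_mem _
  have hM₁q : IsPGroup q ↥(H ⊓ M₀) := by
    rintro ⟨m, hmH, hmM⟩
    rw [hM₀] at hmM
    obtain ⟨k, hk⟩ := hPq ⟨_, hmM⟩
    have hk' : (QuotientGroup.mk' N m) ^ (q ^ k) = 1 := by
      have := congrArg Subtype.val hk
      simpa using this
    have hmN : m ^ (q ^ k) ∈ N := by
      rw [← QuotientGroup.eq_one_iff, QuotientGroup.mk_pow]
      exact hk'
    have hmem : m ^ (q ^ k) ∈ H ⊓ N := ⟨H.pow_mem hmH _, hmN⟩
    rw [hHN, Subgroup.mem_bot] at hmem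
    refine ⟨k, Subtype.ext ?_⟩
    simpa using hmem
  have hM₁F : H ⊓ M₀ ≤ (Cfsg.fittingSubgroup H).map H.subtype := by
    intro m hm
    have hn : ((H ⊓ M₀).subgroupOf H).Normal := by
      rw [Subgroup.inf_subgroupOf_left]
      infer_instance
    have hp' : IsPGroup q ((H ⊓ M₀).subgroupOf H) := hM₁q.comap_subtype
    have hnil : Group.IsNilpotent ((H ⊓ M₀).subgroupOf H) := hp'.isNilpotent
    have hle : (H ⊓ M₀).subgroupOf H ≤ Cfsg.fittingSubgroup H := le_sSup ⟨hn, hnil⟩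
    exact ⟨⟨m, hm.1⟩, hle (by rw [Subgroup.mem_subgroupOf]; exact hm), rfl⟩
  have hsup : M₀ ≤ (H ⊓ M₀) ⊔ N := by
    rw [← Subgroup.relIndex_eq_one]
    have hd1 : ((H ⊓ M₀) ⊔ N).relIndex M₀ ∣ (H ⊓ M₀).relIndex M₀ :=
      Subgroup.relIndex_dvd_of_le_left M₀ le_sup_left
    have hd2 : ((H ⊓ M₀) ⊔ N).relIndex M₀ ∣ N.relIndex M₀ :=
      Subgroup.relIndex_dvd_of_le_left M₀ le_sup_right
    have hd3 : (H ⊓ M₀).relIndex M₀ ∣ H.index := by
      rw [Subgroup.inf_relIndex_right, ← relIndex_sup_of_normal']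
      exact Subgroup.relIndex_dvd_index_of_le le_sup_left
    have hN : N.relIndex M₀ = Nat.card (Cfsg.pCore q (S ⧸ N)) := by
      have h1 := Subgroup.relIndex_mul_relIndex (⊥ : Subgroup S) N M₀ bot_le hNM
      rw [Subgroup.relIndex_bot_left, Subgroup.relIndex_bot_left] at h1
      have h2 : Nat.card M₀ = Nat.card N * Nat.card (Cfsg.pCore q (S ⧸ N)) := by
        rw [hM₀, card_comap_mk']
      rw [h2] at h1
      exact Nat.eq_of_mul_eq_mul_left Nat.card_pos h1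
    obtain ⟨k, hk⟩ := (IsPGroup.iff_card).1 hPq
    rw [hN, hk] at hd2
    obtain ⟨j, hj, hj'⟩ := (Nat.dvd_prime_pow hq).1 hd2
    rw [hj']
    rcases Nat.eq_zero_or_pos j with h0 | hpos
    · rw [h0, pow_zero]
    · exfalso
      apply hH.2 q hq hqπ
      refine dvd_trans ?_ (dvd_trans hd1 hd3)
      rw [hj']
      exact dvd_pow_self q hpos.ne'
  intro y hy
  obtain ⟨m, rfl⟩ := QuotientGroup.mk'_surjective N y
  have hm : m ∈ M₀ := by rw [hM₀]; exact hy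
  have hmem : m ∈ (((H ⊓ M₀) ⊔ N : Subgroup S) : Set S) := hsup hm
  rw [Subgroup.mul_normal] at hmem
  obtain ⟨h, hh, n, hn, rfl⟩ := Set.mem_mul.1 hmem
  refine ⟨h, hM₁F hh, ?_⟩
  have hn1 : QuotientGroup.mk' N n = 1 := (QuotientGroup.eq_one_iff n).2 hn
  rw [map_mul, hn1, mul_one]

end Cfsg.Agent.Helper32
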