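import Mathlib

/-!
# A unipotent operator of order `p` whose norm does not vanish modulo an invariant subspace

Pure linear algebra over `ZMod p`: if `T ^ p = 1`, `K` is a `T`-invariant subspace and
`(1 + T + ⋯ + T^(p-1)) x ∉ K`, then `K` has codimension at least `p`.
-/

set_option autoImplicit false

namespace Cfsg.Agent.Helper32

open Polynomial in
theorem poly_sub_one_pow (p : ℕ) [hp : Fact p.Prime] :
    ((X : (ZMod p)[X]) - 1) ^ (p - 1) = ∑ i ∈ Finset.range p, (X : (ZMod p)[X]) ^ i := by
  have hne : (X : (ZMod p)[X]) - 1 ≠ 0 := by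
    have := X_sub_C_ne_zero (1 : ZMod p)
    simpa using this
  apply mul_left_cancel₀ hne
  rw [mul_geom_sum, ← pow_succ', Nat.sub_add_cancel hp.out.one_le, sub_pow_char, one_pow]

theorem end_sub_one_pow {p : ℕ} [hp : Fact p.Prime] {V : Type*} [AddCommGroup V]
    [Module (ZMod p) V] (T : Module.End (ZMod p) V) :
    (T - 1) ^ (p - 1) = ∑ i ∈ Finset.range p, T ^ i := by
  have h := congrArg (Polynomial.aeval T) (poly_sub_one_pow p)
  simpa using h

theorem card_mul_pow_le_of_norm_not_mem {p : ℕ} [hp : Fact p.Prime] {V : Type*} [AddCommGroup V]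
    [Module (ZMod p) V] [Finite V] (T : Module.End (ZMod p) V) (hT : T ^ p = 1)
    (K : Submodule (ZMod p) V) (hK : ∀ v ∈ K, T v ∈ K) (x : V)
    (hx : (∑ i ∈ Finset.range p, T ^ i) x ∉ K) :
    Nat.card K * p ^ p ≤ Nat.card V := by
  set D : Module.End (ZMod p) V := T - 1 with hD
  have hD1 : D ^ (p - 1) = ∑ i ∈ Finset.range p, T ^ i := end_sub_one_pow T
  have hDp : D ^ p = 0 := by
    have h1 : D ^ p = D * D ^ (p - 1) := by
      rw [← pow_succ', Nat.sub_add_cancel hp.out.one_le]
    rw [h1, hD1, hD, mul_geom_sum, hT, sub_self]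
  have hKD : ∀ v ∈ K, D v ∈ K := by
    intro v hv
    have : D v = T v - v := by simp [hD]
    rw [this]
    exact K.sub_mem (hK v hv) hv
  let L : ℕ → Submodule (ZMod p) V := fun j => K.comap (D ^ j)
  have hLmem : ∀ j v, v ∈ L j ↔ (D ^ j) v ∈ K := fun j v => Iff.rfl
  have hmono : ∀ j, L j ≤ L (j + 1) := by
    intro j v hv
    rw [hLmem] at hv ⊢
    rw [pow_succ', Module.End.mul_apply]
    exact hKD _ hv
  have hstrict : ∀ j, j < p → L j < L (j + 1) := by
    intro j hj
    refine lt_of_le_of_ne (hmono j) ?_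
    intro heq
    have h1 : (D ^ (p - 1 - j)) x ∈ L (j + 1) := by
      rw [hLmem, ← Module.End.mul_apply, ← pow_add,
        show j + 1 + (p - 1 - j) = p by omega, hDp]
      simp
    rw [← heq, hLmem, ← Module.End.mul_apply, ← pow_add,
      show j + (p - 1 - j) = p - 1 by omega, hD1] at h1
    exact hx h1
  have hrank : ∀ j, j ≤ p → Module.finrank (ZMod p) (L 0) + j ≤ Module.finrank (ZMod p) (L j) := by
    intro j
    induction j with
    | zero => intro _; simp
    | succ j ih =>
      intro hj
      have h1 := ih (by omega)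
      have h2 := Submodule.finrank_lt_finrank_of_lt (hstrict j (by omega))
      omega
  have hL0 : L 0 = K := by
    ext v
    rw [hLmem]
    simp
  have hLp : L p = ⊤ := by
    ext v
    rw [hLmem, hDp]
    simp
  have h3 := hrank p le_rfl
  rw [hL0, hLp, finrank_top] at h3
  have hcV : Nat.card V = p ^ Module.finrank (ZMod p) V := by
    rw [Module.natCard_eq_pow_finrank (K := ZMod p) (V := V), Nat.card_zmod]
  have hcK : Nat.card K = p ^ Module.finrank (ZMod p) K := by
    rw [Module.natCard_eq_pow_finrank (K := ZMod p) (V := K), Nat.card_zmod]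
  rw [hcV, hcK, ← pow_add]
  exact Nat.pow_le_pow_right hp.out.pos h3

end Cfsg.Agent.Helper32
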