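import Mathlib
import Cfsg.Prelude.Def_Local
import Cfsg.Agent.Helper32.PPrime

/-!
# Tightly embedded subgroups: elementwise form and the `T × R` lemma
-/

set_option autoImplicit false

namespace Cfsg.Agent.Helper32

open Subgroup

variable {G : Type*} [Group G]

/-- Elementwise form of tight embedding (without the even order clause): a `2`-element of
`Q ∩ y Q y⁻¹` with `y ∉ N(Q)` is trivial. -/
def TE (Q : Subgroup G) : Prop :=
  ∀ y : G, y ∉ normalizer (Q : Set G) → ∀ q ∈ Q, y⁻¹ * q * y ∈ Q →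
    ∀ k : ℕ, q ^ (2 ^ k) = 1 → q = 1

theorem te_of_isTightlyEmbedded [Finite G] {Q : Subgroup G} (hQ : Cfsg.IsTightlyEmbedded Q) :
    TE Q := by
  intro y hy q hq hq' k hk
  have hodd := hQ.2 y hy
  have hmem : q ∈ Q ⊓ Q.map (MulAut.conj y).toMonoidHom := by
    refine Subgroup.mem_inf.2 ⟨hq, Subgroup.mem_map.2 ⟨y⁻¹ * q * y, hq', ?_⟩⟩
    show y * (y⁻¹ * q * y) * y⁻¹ = q
    group
  have h1 : (⟨q, hmem⟩ : ↥(Q ⊓ Q.map (MulAut.conj y).toMonoidHom)) ^
      (Nat.card ↥(Q ⊓ Q.map (MulAut.conj y).toMonoidHom)) = 1 := pow_card_eq_one'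
  have h2 : q ^ (Nat.card ↥(Q ⊓ Q.map (MulAut.conj y).toMonoidHom)) = 1 := by
    exact congrArg Subtype.val h1
  exact eq_one_of_pow_coprime hk h2 (Nat.Coprime.pow_left k (Nat.coprime_two_left.2 hodd))

theorem mem_map_conj_iff32 (Q : Subgroup G) (g x : G) :
    x ∈ Q.map (MulAut.conj g).toMonoidHom ↔ g⁻¹ * x * g ∈ Q := by
  constructor
  · rintro ⟨q, hq, rfl⟩
    have : g⁻¹ * ((MulAut.conj g).toMonoidHom q) * g = q := by
      show g⁻¹ * (g * q * g⁻¹) * g = q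
      group
    rw [this]; exact hq
  · intro h
    refine ⟨g⁻¹ * x * g, h, ?_⟩
    show g * (g⁻¹ * x * g) * g⁻¹ = x
    group

theorem inv_conj_pow32 (g q : G) (n : ℕ) : (g⁻¹ * q * g) ^ n = g⁻¹ * q ^ n * g := by
  have := conj_pow (a := g⁻¹) (b := q) (i := n)
  rwa [inv_inv] at this

theorem te_conj {Q Q' : Subgroup G} (hTE : TE Q) (g : G)
    (hQ' : ∀ x, x ∈ Q' ↔ g⁻¹ * x * g ∈ Q) : TE Q' := by
  intro y hy q hq hq' k hk
  have hy' : g⁻¹ * y * g ∉ normalizer (Q : Set G) := by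
    intro h
    apply hy
    rw [mem_normalizer_iff] at h ⊢
    intro x
    rw [hQ', hQ', h (g⁻¹ * x * g)]
    have : g⁻¹ * y * g * (g⁻¹ * x * g) * (g⁻¹ * y * g)⁻¹ = g⁻¹ * (y * x * y⁻¹) * g := by group
    rw [this]
  have h1 : g⁻¹ * q * g = 1 := by
    refine hTE (g⁻¹ * y * g) hy' (g⁻¹ * q * g) ((hQ' q).1 hq) ?_ k ?_
    · have : (g⁻¹ * y * g)⁻¹ * (g⁻¹ * q * g) * (g⁻¹ * y * g) = g⁻¹ * (y⁻¹ * q * y) * g := by
        group
      rw [this]; exact (hQ' _).1 hq'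
    · rw [inv_conj_pow32, hk]; group
  have : q = g * (g⁻¹ * q * g) * g⁻¹ := by group
  rw [this, h1]; group

theorem mem_normalizer_of_commute {Q : Subgroup G} (hTE : TE Q) {x t : G} (ht : t ∈ Q)
    (ht1 : t ≠ 1) {k : ℕ} (hk : t ^ (2 ^ k) = 1) (hc : x * t = t * x) :
    x ∈ normalizer (Q : Set G) := by
  by_contra hx
  apply ht1
  refine hTE x hx t ht ?_ k hk
  have : x⁻¹ * t * x = t := by rw [mul_assoc, ← hc, inv_mul_cancel_left]
  rw [this]; exact ht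

theorem relIndex_sup_of_le_normalizer [Finite G] (R D : Subgroup G)
    (h : R ≤ normalizer (D : Set G)) : R.relIndex (R ⊔ D) = R.relIndex D := by
  have hD : D ≤ normalizer (D : Set G) := le_normalizer
  have := relIndex_sup_of_normal' (R.subgroupOf (normalizer (D : Set G)))
    (D.subgroupOf (normalizer (D : Set G)))
  rw [← subgroupOf_sup h hD, relIndex_subgroupOf (sup_le h hD), relIndex_subgroupOf hD] at this
  exact this

theorem exists_sylow_between [Finite G] {p : ℕ} [Fact p.Prime] (R L : Subgroup G)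
    (hR : IsPGroup p R) (hRL : R ≤ L) :
    ∃ R₁ : Subgroup G, R ≤ R₁ ∧ R₁ ≤ L ∧ IsPGroup p R₁ ∧ ¬ p ∣ R₁.relIndex L := by
  have hR' : IsPGroup p (R.subgroupOf L) := hR.comap_subtype
  obtain ⟨P, hP⟩ := hR'.exists_le_sylow
  refine ⟨(P : Subgroup L).map L.subtype, ?_, map_subtype_le _, P.isPGroup'.map _, ?_⟩
  · intro x hx
    exact ⟨⟨x, hRL hx⟩, hP (by simpa [mem_subgroupOf] using hx), rfl⟩
  · have := P.not_dvd_index
    rwa [Subgroup.relIndex, Subgroup.subgroupOf,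
      Subgroup.comap_map_eq_self_of_injective L.subtype_injective]

theorem two_elt_of_mem {T : Subgroup G} (hT2 : IsPGroup 2 T) {t : G} (ht : t ∈ T) :
    ∃ k : ℕ, t ^ (2 ^ k) = 1 := by
  obtain ⟨k, hk⟩ := hT2 ⟨t, ht⟩
  refine ⟨k, ?_⟩
  have := congrArg Subtype.val hk
  simpa using this

theorem mem_sup_of_commute32 (A B : Subgroup G)
    (hAB : ∀ a ∈ A, ∀ b ∈ B, a * b = b * a) {x : G} (hx : x ∈ A ⊔ B) :
    ∃ a ∈ A, ∃ b ∈ B, x = a * b := by
  rw [Subgroup.sup_eq_closure] at hx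
  induction hx using Subgroup.closure_induction with
  | mem y hy =>
    rcases hy with hy | hy
    · exact ⟨y, hy, 1, one_mem _, (mul_one y).symm⟩
    · exact ⟨1, one_mem _, y, hy, (one_mul y).symm⟩
  | one => exact ⟨1, one_mem _, 1, one_mem _, (mul_one 1).symm⟩
  | mul y z _ _ hy hz =>
    obtain ⟨a, ha, b, hb, rfl⟩ := hy
    obtain ⟨a', ha', b', hb', rfl⟩ := hz
    refine ⟨a * a', mul_mem ha ha', b * b', mul_mem hb hb', ?_⟩
    calc a * b * (a' * b') = a * (b * a') * b' := by group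
      _ = a * (a' * b) * b' := by rw [hAB a' ha' b hb]
      _ = a * a' * (b * b') := by group
  | inv y _ hy =>
    obtain ⟨a, ha, b, hb, rfl⟩ := hy
    refine ⟨a⁻¹, inv_mem ha, b⁻¹, inv_mem hb, ?_⟩
    rw [mul_inv_rev]
    exact (hAB a⁻¹ (inv_mem ha) b⁻¹ (inv_mem hb)).symm

/-- Projection onto the second factor of an internal direct product, composed with a hom. -/
theorem exists_proj_hom {H : Type*} [Group H] (T R : Subgroup G) (hTR : T ⊓ R = ⊥)
    (hc : ∀ t ∈ T, ∀ r ∈ R, t * r = r * t) (φ : H →* G) (hφ : ∀ h, φ h ∈ T ⊔ R) :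
    ∃ ψ : H →* R, ∀ h, ∃ t ∈ T, φ h = t * (ψ h : G) := by
  have hex : ∀ h, ∃ r : R, ∃ t ∈ T, φ h = t * (r : G) := by
    intro h
    obtain ⟨t, ht, r, hr, e⟩ := mem_sup_of_commute32 T R hc (hφ h)
    exact ⟨⟨r, hr⟩, t, ht, e⟩
  choose f hf using hex
  have huniq : ∀ (t t' r r' : G), t ∈ T → t' ∈ T → r ∈ R → r' ∈ R → t * r = t' * r' →
      r = r' := by
    intro t t' r r' ht ht' hr hr' e
    have h1 : t'⁻¹ * t = r' * r⁻¹ := by
      rw [inv_mul_eq_iff_eq_mul, ← mul_assoc, ← e, mul_inv_cancel_right]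
    have h2 : r' * r⁻¹ ∈ T ⊓ R :=
      Subgroup.mem_inf.2 ⟨h1 ▸ T.mul_mem (T.inv_mem ht') ht, R.mul_mem hr' (R.inv_mem hr)⟩
    rw [hTR, Subgroup.mem_bot] at h2
    exact (mul_inv_eq_one.1 h2).symm
  refine ⟨MonoidHom.mk' f ?_, hf⟩
  intro a b
  obtain ⟨ta, hta, ea⟩ := hf a
  obtain ⟨tb, htb, eb⟩ := hf b
  obtain ⟨tab, htab, eab⟩ := hf (a * b)
  apply Subtype.ext
  refine huniq tab (ta * tb) _ _ htab (T.mul_mem hta htb) (f (a * b)).2
    (R.mul_mem (f a).2 (f b).2) ?_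
  rw [← eab, map_mul, ea, eb]
  have h3 := hc tb htb (f a) (f a).2
  calc ta * (f a : G) * (tb * (f b : G)) = ta * ((f a : G) * tb) * (f b : G) := by group
    _ = ta * (tb * (f a : G)) * (f b : G) := by rw [h3]
    _ = ta * tb * ((f a : G) * (f b : G)) := by group

/-- The `T × R` lemma for tightly embedded subgroups. -/
theorem tight_stepA [Finite G] (Q Q' : Subgroup G) (hTE : TE Q) (g : G)
    (hg : g ∉ normalizer (Q : Set G)) (hQ' : ∀ x, x ∈ Q' ↔ g⁻¹ * x * g ∈ Q)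
    (T : Subgroup G) (hTQ' : T ≤ Q') (hTN : T ≤ normalizer (Q : Set G)) (hT2 : IsPGroup 2 T)
    (S : Subgroup G) (hTS : T ≤ S) (hS : S ≤ Q ⊔ T) (hS2 : IsPGroup 2 S)
    (hSsyl : ¬ 2 ∣ S.relIndex (Q ⊔ T)) :
    T ⊓ Q = ⊥ ∧ T ⊓ (S ⊓ normalizer (T : Set G) ⊓ Q) = ⊥ ∧
      (∀ t ∈ T, ∀ r ∈ S ⊓ normalizer (T : Set G) ⊓ Q, t * r = r * t) ∧
      T ⊔ (S ⊓ normalizer (T : Set G) ⊓ Q) = S ⊓ normalizer (T : Set G) ∧
      ∃ ψ : T →* ↥(S ⊓ normalizer (T : Set G) ⊓ Q), Function.Injective ψ := by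
  classical
  have : Fact (Nat.Prime 2) := ⟨Nat.prime_two⟩
  have hTE' : TE Q' := te_conj hTE g hQ'
  -- 2-elements of Q ∩ Q' are trivial
  have hQQ' : ∀ t : G, t ∈ Q → t ∈ Q' → ∀ k : ℕ, t ^ (2 ^ k) = 1 → t = 1 := by
    intro t ht ht' k hk
    exact hTE g hg t ht ((hQ' t).1 ht') k hk
  set R : Subgroup G := S ⊓ normalizer (T : Set G) ⊓ Q with hRdef
  have hRS : R ≤ S := inf_le_left.trans inf_le_left
  have hRN : R ≤ normalizer (T : Set G) := inf_le_left.trans inf_le_right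
  have hRQ : R ≤ Q := inf_le_right
  have hR2 : IsPGroup 2 R := hS2.to_le hRS
  have ha : T ⊓ Q = ⊥ := by
    rw [eq_bot_iff]
    intro t ht
    obtain ⟨ht1, ht2⟩ := Subgroup.mem_inf.1 ht
    obtain ⟨k, hk⟩ := two_elt_of_mem hT2 ht1
    exact Subgroup.mem_bot.2 (hQQ' t ht2 (hTQ' ht1) k hk)
  have hb : T ⊓ R = ⊥ := by
    rw [eq_bot_iff, ← ha]
    exact inf_le_inf_left T hRQ
  have hcomm : ∀ t ∈ T, ∀ r ∈ R, t * r = r * t := by
    intro t ht r hr
    have h1 : t * r * t⁻¹ * r⁻¹ ∈ T := by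
      have := (mem_normalizer_iff.1 (hRN hr) t⁻¹).1 (T.inv_mem ht)
      have e : t * r * t⁻¹ * r⁻¹ = t * (r * t⁻¹ * r⁻¹) := by group
      rw [e]; exact T.mul_mem ht this
    have h2 : t * r * t⁻¹ * r⁻¹ ∈ Q := by
      have := (mem_normalizer_iff.1 (hTN ht) r).1 (hRQ hr)
      exact Q.mul_mem this (Q.inv_mem (hRQ hr))
    have h3 : t * r * t⁻¹ * r⁻¹ ∈ T ⊓ Q := Subgroup.mem_inf.2 ⟨h1, h2⟩
    rw [ha, Subgroup.mem_bot] at h3
    have e : t * r = (t * r * t⁻¹ * r⁻¹) * (r * t) := by group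
    rw [e, h3, one_mul]
  have hd : T ⊔ R = S ⊓ normalizer (T : Set G) := by
    apply le_antisymm
    · exact sup_le (le_inf hTS le_normalizer) inf_le_left
    · intro x hx
      obtain ⟨hxS, hxN⟩ := Subgroup.mem_inf.1 hx
      have hx' : x ∈ ((Q ⊔ T : Subgroup G) : Set G) := hS hxS
      rw [coe_mul_of_right_le_normalizer_left Q T hTN] at hx'
      obtain ⟨q, hq, t, ht, rfl⟩ := Set.mem_mul.1 hx'
      have hq' : q ∈ R := by
        have e : q = q * t * t⁻¹ := by group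
        refine Subgroup.mem_inf.2 ⟨Subgroup.mem_inf.2 ⟨?_, ?_⟩, hq⟩
        · rw [e]; exact S.mul_mem hxS (S.inv_mem (hTS ht))
        · rw [e]; exact (normalizer (T : Set G)).mul_mem hxN
            ((normalizer (T : Set G)).inv_mem (le_normalizer ht))
      exact (T ⊔ R).mul_mem (mem_sup_right hq') (mem_sup_left ht)
  refine ⟨ha, hb, hcomm, hd, ?_⟩
  by_cases hSN : S ≤ normalizer (T : Set G)
  · -- Case 1: `T` is normal in `S`; `R = S ∩ Q` is Sylow in `Q`.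
    have hSNQ : S ≤ normalizer (Q : Set G) := hS.trans (sup_le le_normalizer hTN)
    have hRsyl : ¬ 2 ∣ R.relIndex Q := by
      rw [hRdef, inf_eq_left.2 hSN, inf_relIndex_right, ← relIndex_sup_of_le_normalizer S Q hSNQ]
      have e : S ⊔ Q = Q ⊔ T := le_antisymm (sup_le hS le_sup_left)
        (sup_le le_sup_right (hTS.trans le_sup_left))
      rw [e]; exact hSsyl
    have hle : T.map (MulAut.conj g⁻¹).toMonoidHom ≤ Q := by
      intro x hx
      rw [mem_map_conj_iff32, inv_inv] at hx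
      have := (hQ' _).1 (hTQ' hx)
      have e : g⁻¹ * (g * x * g⁻¹) * g = x := by group
      rwa [e] at this
    obtain ⟨c, hcQ, hc⟩ := exists_conj_mem_of_relIndex R Q hR2 hRsyl
      (T.map (MulAut.conj g⁻¹).toMonoidHom) (hT2.map _) hle
    have hmem : ∀ τ : T, c⁻¹ * (g⁻¹ * (τ : G) * g) * c ∈ R := by
      intro τ
      apply hc
      rw [mem_map_conj_iff32, inv_inv]
      have e : g * (g⁻¹ * (τ : G) * g) * g⁻¹ = τ := by group
      rw [e]; exact τ.2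
    refine ⟨MonoidHom.mk' (fun τ : T => (⟨c⁻¹ * (g⁻¹ * (τ : G) * g) * c, hmem τ⟩ : R)) ?_, ?_⟩
    · intro a b
      apply Subtype.ext
      show c⁻¹ * (g⁻¹ * ((a * b : T) : G) * g) * c =
        c⁻¹ * (g⁻¹ * (a : G) * g) * c * (c⁻¹ * (g⁻¹ * (b : G) * g) * c)
      rw [Subgroup.coe_mul]; group
    · intro a b hab
      have h1 : c⁻¹ * (g⁻¹ * (a : G) * g) * c = c⁻¹ * (g⁻¹ * (b : G) * g) * c :=
        congrArg Subtype.val hab
      apply Subtype.ext
      have e : ∀ u : G, u = g * (c * (c⁻¹ * (g⁻¹ * u * g) * c) * c⁻¹) * g⁻¹ := by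
        intro u; group
      rw [e (a : G), h1, ← e]
  · -- Case 2: normalizer growth in the 2-group `S`.
    have hnil : Group.IsNilpotent S := hS2.isNilpotent
    have hNC : NormalizerCondition S := Group.normalizerCondition_of_isNilpotent
    have hlt : (normalizer (T : Set G)).subgroupOf S < ⊤ := by
      rw [lt_top_iff_ne_top, Ne, subgroupOf_eq_top]
      exact hSN
    obtain ⟨hle, hnle⟩ := (lt_iff_le_not_ge.1 (hNC _ hlt))
    obtain ⟨x', hx'1, hx'2⟩ := Set.not_subset.1 hnle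
    set x : G := (x' : G) with hxdef
    have hxS : x ∈ S := x'.2
    have hxN : x ∉ normalizer (T : Set G) := fun h => hx'2 (mem_subgroupOf.2 h)
    have hxnorm : ∀ y ∈ S ⊓ normalizer (T : Set G), x * y * x⁻¹ ∈ S ⊓ normalizer (T : Set G) := by
      intro y hy
      obtain ⟨hyS, hyN⟩ := Subgroup.mem_inf.1 hy
      have := (mem_normalizer_iff.1 hx'1 ⟨y, hyS⟩).1 (mem_subgroupOf.2 hyN)
      rw [mem_subgroupOf] at this
      exact Subgroup.mem_inf.2 ⟨S.mul_mem (S.mul_mem hxS hyS) (S.inv_mem hxS), this⟩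
    have hxQ' : x ∉ normalizer (Q' : Set G) := by
      intro hxQ'
      apply hxN
      refine mem_normalizer_fintype ?_
      intro τ hτ
      have h1 : x * τ * x⁻¹ ∈ T ⊔ R := by
        rw [hd]; exact hxnorm τ (Subgroup.mem_inf.2 ⟨hTS hτ, le_normalizer hτ⟩)
      obtain ⟨t, ht, r, hr, e⟩ := mem_sup_of_commute32 T R hcomm h1
      have h2 : x * τ * x⁻¹ ∈ Q' := (mem_normalizer_iff.1 hxQ' τ).1 (hTQ' hτ)
      have h3 : r ∈ Q' := by
        have e' : r = t⁻¹ * (x * τ * x⁻¹) := by rw [e]; group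
        rw [e']; exact Q'.mul_mem (Q'.inv_mem (hTQ' ht)) h2
      obtain ⟨k, hk⟩ := two_elt_of_mem hR2 hr
      have h4 : r = 1 := hQQ' r (hRQ hr) h3 k hk
      show x * τ * x⁻¹ ∈ T
      rw [e, h4, mul_one]; exact ht
    have hφ : ∀ τ : T, ((MulAut.conj x).toMonoidHom.comp T.subtype) τ ∈ T ⊔ R := by
      intro τ
      rw [hd]
      exact hxnorm τ (Subgroup.mem_inf.2 ⟨hTS τ.2, le_normalizer τ.2⟩)
    obtain ⟨ψ, hψ⟩ := exists_proj_hom T R hb hcomm
      ((MulAut.conj x).toMonoidHom.comp T.subtype) hφ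
    refine ⟨ψ, (injective_iff_map_eq_one ψ).2 ?_⟩
    intro τ hτ
    obtain ⟨t, ht, e⟩ := hψ τ
    rw [hτ] at e
    have e' : x * (τ : G) * x⁻¹ = t := by
      have : ((MulAut.conj x).toMonoidHom.comp T.subtype) τ = x * (τ : G) * x⁻¹ := rfl
      rw [← this, e]; simp
    obtain ⟨k, hk⟩ := two_elt_of_mem hT2 τ.2
    have hx' : x⁻¹ ∉ normalizer (Q' : Set G) := fun h => hxQ' (by simpa using inv_mem h)
    have := hTE' x⁻¹ hx' τ (hTQ' τ.2) (by rw [inv_inv, e']; exact hTQ' ht) k hk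
    exact Subtype.ext this

end Cfsg.Agent.Helper32
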